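import Groth.Agent.Lib.RegRat32.Push
import Groth.Agent.Lib.BlowH1_32.Basic
import Groth.Agent.Lib.PointBlowUp32.Universal
import Groth.Agent.Lib.PointBlowUp32.Principal
import Groth.Agent.Lib.PointBlowUp32.Contract
import Groth.Agent.Lib.BlowUp26.Basic
import Groth.Agent.Lib.CohFound.ModAb
import Mathlib

/-!
# Point blowing ups keep `H¹(O) = 0`
-/

set_option autoImplicit false
set_option linter.style.haveILetI false
set_option linter.unusedSectionVars false
set_option backward.isDefEq.respectTransparency false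
set_option maxHeartbeats 1000000

universe u

open CategoryTheory CategoryTheory.Limits AlgebraicGeometry TopologicalSpace Opposite IsLocalRing

noncomputable section

namespace Groth.Agent.RegRat

open PointBlowUp CohFound Groth.Agent.DivDesc12

theorem isQCoh_structureModule (X : Scheme.{u}) : Coh.IsQCoh (Coh.structureModule X) := by
  have e : SheafOfModules.free (R := X.ringCatSheaf) PUnit.{u + 1} ≅ Coh.structureModule X :=
    coproductUniqueIso _
  have h : (SheafOfModules.free (R := X.ringCatSheaf) PUnit.{u + 1}).IsQuasicoherent := inferInstance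
  exact (SheafOfModules.isQuasicoherent X.ringCatSheaf).prop_of_iso e h

variable {Y Z : Scheme.{u}} [IsLocallyNoetherian Z] {z : Z} (hz : IsClosed ({z} : Set Z))

/-- The good affine opens: those missing the point, or on which its ideal has two generators. -/
def goodOpens : Set Z.Opens :=
  {W | ∃ hW : IsAffineOpen W, z ∉ W ∨ ∃ p q : Γ(Z, W), (ptIdeal hz).ideal ⟨W, hW⟩ = Ideal.span {p, q}}

theorem isBasis_goodOpens [IsRegularLocalRing (Z.presheaf.stalk z)]
    (hdim : ringKrullDim (Z.presheaf.stalk z) = 2) : Opens.IsBasis (goodOpens hz) := by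
  classical
  refine Opens.isBasis_iff_nbhd.2 fun {O x} hx => ?_
  by_cases hxz : x = z
  swap
  · obtain ⟨W, hW, hxW, hWO⟩ := exists_isAffineOpen_mem_and_subset (X := Z) (x := x)
      (U := O ⊓ ⟨{z}ᶜ, hz.isOpen_compl⟩) ⟨hx, hxz⟩
    exact ⟨W, ⟨hW, Or.inl fun h => (hWO h).2 rfl⟩, hxW, fun w hw => (hWO hw).1⟩
  subst hxz
  obtain ⟨U, hU, hxU, hUO⟩ := exists_isAffineOpen_mem_and_subset hx
  letI := Z.presheaf.algebra_section_stalk (⟨x, hxU⟩ : U)
  haveI := hU.isLocalization_stalk ⟨x, hxU⟩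
  haveI : IsNoetherianRing Γ(Z, U) := IsLocallyNoetherian.component_noetherian ⟨U, hU⟩
  let P := (ptIdeal hz).ideal ⟨U, hU⟩
  let M := (hU.primeIdealOf ⟨x, hxU⟩).asIdeal.primeCompl
  let g : Γ(Z, U) →+* Z.presheaf.stalk x := algebraMap _ _
  have hP : P.map g = maximalIdeal _ := by
    rw [← stI_ptIdeal hz, stI_eq _ ⟨U, hU⟩ hxU]
    rfl
  have h2 : (maximalIdeal (Z.presheaf.stalk x)).spanFinrank = 2 := by
    have := IsRegularLocalRing.spanFinrank_maximalIdeal (R := Z.presheaf.stalk x)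
    rw [hdim] at this
    exact_mod_cast this
  obtain ⟨t, ht, hspan⟩ :=
    Submodule.FG.exists_span_finset_card_eq_spanFinrank (IsNoetherian.noetherian (maximalIdeal (Z.presheaf.stalk x)))
  obtain ⟨p, q, -, rfl⟩ := Finset.card_eq_two.1 (ht.trans h2)
  have hm : maximalIdeal (Z.presheaf.stalk x) = Ideal.span {p, q} := by
    rw [show maximalIdeal (Z.presheaf.stalk x) = Ideal.span (({p, q} : Finset _) : Set _) from hspan.symm]
    simp
  -- numerators
  have hnum : ∀ w ∈ maximalIdeal (Z.presheaf.stalk x), ∃ a ∈ P, ∃ s : M, w * g s = g a := fun w hw => by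
    rw [← hP] at hw
    obtain ⟨⟨a, s⟩, h⟩ := (IsLocalization.mem_map_algebraMap_iff M _).1 hw
    exact ⟨a.1, a.2, s, h⟩
  obtain ⟨a, ha, s, hs⟩ := hnum p (hm ▸ Ideal.subset_span (Or.inl rfl))
  obtain ⟨b, hb, s', hs'⟩ := hnum q (hm ▸ Ideal.subset_span (Or.inr rfl))
  let J : Ideal Γ(Z, U) := Ideal.span {a, b}
  have hgen : ∀ w ∈ P, ∃ r ∈ M, r * w ∈ J := fun w hw => by
    refine (IsLocalization.algebraMap_mem_map_algebraMap_iff M (Z.presheaf.stalk x) J w).1 ?_
    have h1 : g w ∈ Ideal.span {p, q} := hm ▸ hP ▸ Ideal.mem_map_of_mem g hw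
    refine (Ideal.span_le.2 ?_) h1
    have hu : ∀ r : M, IsUnit (g r) := fun r => IsLocalization.map_units _ r
    rintro _ (rfl | rfl)
    · exact (Ideal.mul_unit_mem_iff_mem _ (hu s)).1 (hs ▸ Ideal.mem_map_of_mem _ (Ideal.subset_span (Or.inl rfl)))
    · exact (Ideal.mul_unit_mem_iff_mem _ (hu s')).1 (hs' ▸ Ideal.mem_map_of_mem _ (Ideal.subset_span (Or.inr rfl)))
  choose r hrM hrJ using hgen
  obtain ⟨T, hT⟩ := IsNoetherian.noetherian P
  let R : Γ(Z, U) := ∏ w ∈ T.attach, r w.1 (hT ▸ Submodule.subset_span w.2)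
  have hRM : R ∈ M := Submonoid.prod_mem _ fun w _ => hrM _ _
  have hRJ : ∀ w ∈ P, R * w ∈ J := fun w hw => by
    have hle : P ≤ Submodule.comap (LinearMap.mulLeft Γ(Z, U) R) J := by
      rw [← hT, Submodule.span_le]
      intro w hw
      obtain ⟨c, hc⟩ := Finset.dvd_prod_of_mem (fun w : T => r w.1 (hT ▸ Submodule.subset_span w.2))
        (Finset.mem_attach T ⟨w, hw⟩)
      show R * w ∈ J
      rw [show R = r w (hT ▸ Submodule.subset_span hw) * c from hc, mul_right_comm]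
      exact J.mul_mem_right _ (hrJ _ _)
    exact hle hw
  let D := Z.affineBasicOpen (U := ⟨U, hU⟩) R
  let ρ := Z.presheaf.map (homOfLE (Z.basicOpen_le R)).op
  have hxD : x ∈ D.1 := (Z.mem_basicOpen R x hxU).2 (IsLocalization.map_units _ (⟨R, hRM⟩ : M))
  refine ⟨D.1, ⟨D.2, Or.inr ⟨ρ a, ρ b, ?_⟩⟩, hxD, fun w hw => hUO (Z.basicOpen_le R hw)⟩
  show (ptIdeal hz).ideal D = _
  rw [← (ptIdeal hz).map_ideal_basicOpen ⟨U, hU⟩ R]
  have hRu : IsUnit (ρ.hom R) := RingedSpace.isUnit_res_basicOpen _ R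
  refine le_antisymm (Ideal.map_le_iff_le_comap.2 fun w hw => ?_) ?_
  · rw [Ideal.mem_comap]
    refine (Ideal.unit_mul_mem_iff_mem _ hRu).1 ?_
    have := Ideal.mem_map_of_mem ρ.hom (hRJ w hw)
    rw [Ideal.map_span, Set.image_pair, map_mul] at this
    exact this
  · rw [Ideal.span_le]
    rintro _ (rfl | rfl)
    · exact Ideal.mem_map_of_mem _ ha
    · exact Ideal.mem_map_of_mem _ hb

variable (f : Y ⟶ Z) (hf : BlowUp.IsBlowUp f (ptIdeal hz))
include hf

/-- Two generators: the preimage of the affine open has `H¹(O) = 0`. -/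
theorem subsingleton_hc_two {W : Z.Opens} (hW : IsAffineOpen W) {p q : Γ(Z, W)}
    (hpq : (ptIdeal hz).ideal ⟨W, hW⟩ = Ideal.span {p, q}) :
    Subsingleton (Hc ((abF Y).obj (Coh.structureModule Y)) 1 (f ⁻¹ᵁ W)) := by
  classical
  let φ := hW.fromSpec
  let C := (ptIdeal hz).comap φ
  have hbl := BlowUp26.isBlowUp_flat_baseChange φ hf
  haveI : IsProper f := PointBlowUp.isProper hz hf
  haveI : IsProper (pullback.fst φ f) := MorphismProperty.pullback_fst _ _ inferInstance
  haveI : (pullback φ f).IsSeparated := ⟨by rw [← terminal.comp_from (pullback.fst φ f)]; infer_instance⟩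
  have himg : φ ''ᵁ ⊤ = W := by rw [Scheme.Hom.image_top_eq_opensRange, IsAffineOpen.opensRange_fromSpec]
  have aux : ∀ V : Z.affineOpens, V = ⟨W, hW⟩ → ∃ p' q' : Γ(Z, V.1), (ptIdeal hz).ideal V = Ideal.span {p', q'} := by
    rintro _ rfl
    exact ⟨p, q, hpq⟩
  obtain ⟨p', q', hpq'⟩ := aux ⟨φ ''ᵁ ⊤, (isAffineOpen_top _).image_of_isOpenImmersion φ⟩ (Subtype.ext himg)
  let e := φ.appIso ⊤
  let a : Fin 2 → Γ(Z, W) := ![(Scheme.ΓSpecIso Γ(Z, W)).hom (e.hom p'), (Scheme.ΓSpecIso Γ(Z, W)).hom (e.hom q')]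
  have hC : C.ideal ⟨⊤, isAffineOpen_top _⟩ = Ideal.span (Set.range (gsec (A := Γ(Z, W)) a)) := by
    have hr : Set.range (gsec (A := Γ(Z, W)) a) = {e.hom.hom p', e.hom.hom q'} := by
      have hinv : ∀ c, (Scheme.ΓSpecIso (CommRingCat.of Γ(Z, W))).inv ((Scheme.ΓSpecIso Γ(Z, W)).hom c) = c :=
        fun c => Iso.hom_inv_id_apply (Scheme.ΓSpecIso Γ(Z, W)) c
      have h0 : gsec (A := Γ(Z, W)) a 0 = e.hom.hom p' := hinv (e.hom p')
      have h1 : gsec (A := Γ(Z, W)) a 1 = e.hom.hom q' := hinv (e.hom q')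
      ext v
      constructor
      · rintro ⟨i, rfl⟩
        fin_cases i
        · exact Or.inl h0
        · exact Or.inr h1
      · rintro (rfl | rfl)
        · exact ⟨0, h0⟩
        · exact ⟨1, h1⟩
    rw [hr, show ({e.hom.hom p', e.hom.hom q'} : Set _) = e.hom.hom '' {p', q'} from (Set.image_pair _ _ _).symm]
    refine Eq.trans ?_ (Ideal.map_span e.hom.hom {p', q'})
    refine ((Scheme.IdealSheafData.ideal_comap_of_isOpenImmersion (ptIdeal hz) φ ⟨⊤, isAffineOpen_top _⟩).trans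
      (congrArg (Ideal.comap e.inv.hom) hpq')).trans ?_
    refine le_antisymm (fun v hv => ?_) (Ideal.map_le_iff_le_comap.2 fun v hv => ?_)
    · have h := Ideal.mem_map_of_mem e.hom.hom (show e.inv.hom v ∈ Ideal.span {p', q'} from hv)
      have hv' : e.hom.hom (e.inv.hom v) = v := Iso.inv_hom_id_apply e v
      rwa [hv'] at h
    · rw [Ideal.mem_comap, Ideal.mem_comap]
      have hv' : e.inv.hom (e.hom.hom v) = v := Iso.hom_inv_id_apply e v
      rwa [hv']
  let Y' := pullback φ f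
  let j : Y' ⟶ Y := pullback.snd φ f
  have hgg : Curv2.IsGloballyGenerated (Coh.structureModule Y') := by
    refine ⟨PUnit.{u + 1}, Sigma.desc fun _ => 𝟙 _, ?_⟩
    exact epi_of_epi_fac (Sigma.ι_desc (fun _ : PUnit.{u + 1} => 𝟙 (Coh.structureModule Y')) PUnit.unit)
  have h := BlowH1.subsingleton_HH_one (A := Γ(Z, W)) a hC hbl (isQCoh_structureModule Y') hgg
  rw [subsingleton_HH_iff] at h
  obtain ⟨ε⟩ := nonempty_hc_abF_restrict j (Coh.structureModule Y) 1 ⊤
  have hj : j ''ᵁ ⊤ = f ⁻¹ᵁ W := by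
    refine Opens.ext ?_
    rw [Scheme.Hom.image_top_eq_opensRange, Scheme.Hom.coe_opensRange, Scheme.Pullback.range_snd,
      IsAffineOpen.range_fromSpec]
    rfl
  rw [hj] at ε
  haveI := h
  haveI : Subsingleton (Hc ((abF Y').obj ((Coh.structureModule Y).restrict j)) 1 ⊤) :=
    (mpEquiv ((abF Y').mapIso (Scheme.Modules.restrictUnitIso j)) 1 ⊤).toEquiv.subsingleton
  exact ε.symm.toEquiv.subsingleton

/-- Blowing up a regular point of a surface keeps `H¹(O) = 0`. -/
theorem subsingleton_HH_one_point [IsRegularLocalRing (Z.presheaf.stalk z)]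
    (hdim : ringKrullDim (Z.presheaf.stalk z) = 2) (hZ : Subsingleton (Coh.HH Z (Coh.structureModule Z) 1)) :
    Subsingleton (Coh.HH Y (Coh.structureModule Y) 1) := by
  refine subsingleton_HH_one_of_push f (PointBlowUp.bijective_app f hz hf hdim) (goodOpens hz)
    (isBasis_goodOpens hz hdim) (fun W hW => ?_) hZ
  obtain ⟨hWa, hzW | ⟨p, q, hpq⟩⟩ := hW
  · haveI := PointBlowUp.isIso_restrict hz hf
    haveI : IsIso (f ∣_ W) := PointBlowUp.isIso_restrict_le f (⟨{z}ᶜ, hz.isOpen_compl⟩ : Z.Opens) W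
      fun w hw (h : w = z) => hzW (h ▸ hw)
    haveI : IsAffine (W : Scheme.{u}) := hWa
    have haff : IsAffineOpen (f ⁻¹ᵁ W) := IsAffine.of_isIso (f ∣_ W)
    haveI : (Coh.structureModule Y).IsQuasicoherent := isQCoh_structureModule Y
    exact subsingleton_hc_isAffineOpen (Coh.structureModule Y) haff 0
  · exact subsingleton_hc_two hz f hf hWa hpq

end Groth.Agent.RegRat
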