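import Groth.Agent.Lib.RegRat32.Point
import Groth.Agent.Lib.PointBlowUp32.RatMap
import Groth.Agent.Lib.Fibration13.Basic
import Groth.Agent.Lib.NormBlow32.Stage
import Groth.Agent.Lib.RelMin32.Basic
import Mathlib

/-!
# A regular surface germ is a rational singularity
-/

set_option autoImplicit false
set_option linter.style.haveILetI false
set_option linter.unusedSectionVars false
set_option backward.isDefEq.respectTransparency false
set_option maxHeartbeats 1000000

universe u

open CategoryTheory CategoryTheory.Limits AlgebraicGeometry TopologicalSpace Opposite IsLocalRing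

noncomputable section

namespace Groth.Agent.RegRat

open PointBlowUp CohFound

/-- Contraction sequences: integral, proper, birational and keep `H¹(O) = 0`. -/
theorem seq_props {Y X : Scheme.{u}} {g : Y ⟶ X} (hg : Models.IsContractionSeq g) :
    IsNoetherian X → IsIntegral X → (∀ x : X, IsClosed ({x} : Set X) → ¬ IsGenericPoint x (Set.univ : Set X)) →
      IsIntegral Y ∧ IsProper g ∧ (∃ V : X.Opens, (V : Set X).Nonempty ∧ IsIso (g ∣_ V)) ∧
      (Subsingleton (Coh.HH X (Coh.structureModule X) 1) → Subsingleton (Coh.HH Y (Coh.structureModule Y) 1)) := by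
  induction hg with
  | @iso Y X e =>
    intro _ _ _
    haveI : Nonempty Y := ⟨e.inv (Classical.arbitrary _)⟩
    haveI hY : IsIntegral Y := isIntegral_of_isOpenImmersion e.hom
    refine ⟨hY, inferInstance, ⟨⊤, ⟨genericPoint X, trivial⟩, NormBlow.isIso_restrict_iso _ _⟩, fun hX => ?_⟩
    refine subsingleton_HH_one_of_push e.hom (fun W => ConcreteCategory.bijective_of_isIso (e.hom.app W)) _
      (Scheme.isBasis_affineOpens X) (fun W hW => ?_) hX
    haveI : (Coh.structureModule Y).IsQuasicoherent := isQCoh_structureModule Y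
    exact subsingleton_hc_isAffineOpen (Coh.structureModule Y) (IsAffineOpen.preimage hW e.hom) 0
  | @step Y Z X E ι b r _ _ hb _ ih =>
    intro hX hXi hη
    obtain ⟨hZi, hr, ⟨V, hV, hiso⟩, hH⟩ := ih hX hXi hη
    haveI := hZi; haveI := hr; haveI := hiso
    obtain ⟨hZ, hbp, y, hy, hrange, hreg, hdim, hblow⟩ := hb
    haveI := hZ; haveI := hbp; haveI := hreg
    haveI : Nonempty Y := by
      have hmem : y ∈ Set.range (ι ≫ b).base := hrange ▸ rfl
      obtain ⟨e, -⟩ := hmem
      exact ⟨ι e⟩
    obtain ⟨hYi, -⟩ := BlowUpFib6.isIntegral_of_isBlowUp hblow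
    refine ⟨hYi, inferInstance, ?_, fun h => subsingleton_HH_one_point hy b hblow hdim (hH h)⟩
    have hry : IsClosed ({r y} : Set X) := by
      have := r.isClosedMap _ hy
      rwa [Set.image_singleton] at this
    let V' : X.Opens := V ⊓ ⟨{r y}ᶜ, hry.isOpen_compl⟩
    refine ⟨V', ⟨genericPoint X, CurveBlowUp.generic_mem hV, fun e =>
      hη _ hry ((show genericPoint X = r y from e) ▸ genericPoint_spec X)⟩, ?_⟩
    haveI := PointBlowUp.isIso_restrict hy hblow
    haveI : IsIso (r ∣_ V') := CurveBlowUp.isIso_restrict_of_le r inf_le_left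
    haveI : IsIso (b ∣_ (r ⁻¹ᵁ V')) := CurveBlowUp.isIso_restrict_of_le b
      (show r ⁻¹ᵁ V' ≤ (⟨{y}ᶜ, hy.isOpen_compl⟩ : Z.Opens) from fun w hw (e : w = y) => hw.2 (by rw [e]; rfl))
    rw [morphismRestrict_comp]
    infer_instance

/-- A regular local ring of dimension two defines a rational singularity. -/
theorem isRationalSing (A : Type u) [CommRing A] [IsRegularLocalRing A] (hdim : ringKrullDim A = 2) :
    Curv2.IsRationalSing A := by
  intro X f hf hX hXn ⟨U, hU, hiso⟩
  haveI := hf; haveI := hX; haveI := hiso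
  haveI : IsDomain A := (RelMin.isDomain_normal (A := A)).1
  let S := Spec (CommRingCat.of A)
  have hreg : ∀ s : S, IsRegularLocalRing (S.presheaf.stalk s) := fun s => by
    haveI : IsRegularLocalRing (Localization.AtPrime s.asIdeal) :=
      RegLoc.isRegularLocalRing_localization A s.asIdeal
    exact IsRegularLocalRing.of_ringEquiv
      (IsLocalization.algEquiv s.asIdeal.primeCompl (Localization.AtPrime s.asIdeal)
        ((Spec.structureSheaf A).presheaf.stalk s)).toRingEquiv
  have hS : RelMin.NoChain S := RelMin.noChain_of_dim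
    ((PrimeSpectrum.topologicalKrullDim_eq_ringKrullDim A).trans_le hdim.le)
  let φ : (U : Scheme.{u}) ⟶ X := inv (f ∣_ U) ≫ (f ⁻¹ᵁ U).ι
  have hφ : φ ≫ f = U.ι ≫ 𝟙 S := by
    show (inv (f ∣_ U) ≫ (f ⁻¹ᵁ U).ι) ≫ f = _
    rw [Category.assoc, ← morphismRestrict_ι, IsIso.inv_hom_id_assoc, Category.comp_id]
  obtain ⟨X', b, h, hb, hc, -⟩ := exists_extend_rational hreg hS (𝟙 S) f U hU φ hφ
  rw [Category.comp_id] at hc
  have hη : ∀ s : S, IsClosed ({s} : Set S) → ¬ IsGenericPoint s (Set.univ : Set S) := fun s hs hg => by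
    have hall : ∀ t : S, t = s := fun t => (hg.specializes (Set.mem_univ t)).mem_closed hs rfl
    have h1 : (maximalIdeal A) = ⊥ := by
      have := (hall ⟨maximalIdeal A, inferInstance⟩).trans (hall ⟨⊥, Ideal.isPrime_bot⟩).symm
      exact congrArg PrimeSpectrum.asIdeal this
    have h0 := ringKrullDim_eq_zero_of_isField ((IsLocalRing.isField_iff_maximalIdeal_eq).2 h1)
    rw [hdim] at h0
    exact absurd h0 (by norm_num)
  obtain ⟨hX', hbp, ⟨V, hV, hVi⟩, hH⟩ := seq_props hb inferInstance inferInstance hη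
  haveI := hX'; haveI := hbp; haveI := hVi
  haveI : IsProper h := by
    haveI : IsProper (h ≫ f) := by rw [hc]; infer_instance
    exact IsProper.of_comp h f
  let W : X.Opens := f ⁻¹ᵁ (U ⊓ V)
  have hW : (W : Set X).Nonempty := by
    refine ⟨genericPoint X, show f (genericPoint X) ∈ U ⊓ V from ?_⟩
    rw [NormBlow.map_generic f hU]
    exact ⟨CurveBlowUp.generic_mem hU, CurveBlowUp.generic_mem hV⟩
  haveI : IsIso (h ∣_ W) := by
    haveI : IsIso (b ∣_ (U ⊓ V)) := CurveBlowUp.isIso_restrict_of_le b inf_le_right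
    haveI : IsIso (f ∣_ (U ⊓ V)) := CurveBlowUp.isIso_restrict_of_le f inf_le_left
    haveI : IsIso ((h ≫ f) ∣_ (U ⊓ V)) := by rw [hc]; infer_instance
    have e := morphismRestrict_comp h f (U ⊓ V)
    haveI : IsIso ((h ∣_ W) ≫ (f ∣_ (U ⊓ V))) := e ▸ ‹IsIso ((h ≫ f) ∣_ (U ⊓ V))›
    exact IsIso.of_isIso_comp_right _ (f ∣_ (U ⊓ V))
  obtain ⟨hgen, hbir⟩ := RelMin.birational_of_restrict h hW
  haveI := hbir
  have hspec : h.base (genericPoint X') ⤳ genericPoint X := specializes_of_eq hgen
  refine subsingleton_HH_one_of_dominated h (fun T => Fibration13.bijective_app_of_birational h hXn hspec ?_ T) (hH ?_)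
  · rw [CohIII.stalkToFunctionField, RingHom.coe_comp]
    haveI : IsIso (X.presheaf.stalkSpecializes hspec) :=
      (X.presheaf.stalkCongr (.of_eq hgen.symm)).isIso_hom
    exact (ConcreteCategory.bijective_of_isIso (h.stalkMap (genericPoint X'))).comp
      (ConcreteCategory.bijective_of_isIso (X.presheaf.stalkSpecializes hspec))
  · haveI : (Coh.structureModule S).IsQuasicoherent := isQCoh_structureModule S
    exact CohFound.subsingleton_HH_affine (Coh.structureModule S) 1 one_pos

end Groth.Agent.RegRat
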