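import Groth.Agent.Lib.CohFound.AffMor
import Groth.Agent.Lib.CohFound.HHBridge
import Groth.Agent.Lib.CohFound.Qcqs
import Groth.Agent.Lib.CohFound.Push
import Mathlib

/-!
# First cohomology of the structure sheaf along morphisms with `b_* O = O`
-/

set_option autoImplicit false
set_option linter.style.haveILetI false
set_option linter.unusedSectionVars false
set_option backward.isDefEq.respectTransparency false
set_option maxHeartbeats 1000000

universe u

open CategoryTheory CategoryTheory.Limits AlgebraicGeometry TopologicalSpace Opposite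

noncomputable section

namespace Groth.Agent.RegRat

open CohFound

/-- `H¹(f_* F) → H¹(F)` is injective: vanishing descends. -/
theorem subsingleton_hc_push_one {X Y : TopCat.{u}} (f : X ⟶ Y) (F : CohTop.Ab X)
    (h : Subsingleton (Hc F 1 ⊤)) : Subsingleton (Hc ((CohTop.push f).obj F) 1 ⊤) := by
  let S := injSC F
  have hS : S.ShortExact := injSC_shortExact F
  haveI := hS.mono_f
  let T : ShortComplex (CohTop.Ab Y) := S.map (CohTop.push f)
  have hmono : Mono T.f := mono_of_injective_app _ fun V => injective_app_of_mono S.f ((Opens.map f).obj V)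
  haveI := hmono
  have hexact : T.Exact := exact_of_sections (S := T) fun V s hs =>
    exact_app hS.exact (U := (Opens.map f).obj V) s hs
  haveI hdesc : Mono (cokernel.desc T.f T.g T.zero) := hexact.mono_cokernelDesc
  haveI : Injective S.X₂ := Injective.injective_under F
  haveI : TopCat.Sheaf.IsFlasque T.X₂ := by
    have := isFlasque_of_injective S.X₂
    exact TopCat.Sheaf.IsFlasque.pushforward_isFlasque S.X₂ f
  let T' : ShortComplex (CohTop.Ab Y) := ShortComplex.mk T.f (cokernel.π T.f) (cokernel.condition _)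
  have hT' : T'.ShortExact :=
    { exact := ShortComplex.exact_of_g_is_cokernel _ (cokernelIsCokernel T.f)
      mono_f := hmono
      epi_g := inferInstanceAs (Epi (cokernel.π T.f)) }
  refine subsingleton_of_forall_eq 0 fun x => ?_
  haveI : Subsingleton (Hc T'.X₂ 1 ⊤) := subsingleton_hc_of_isFlasque T.X₂ 0 ⊤
  obtain ⟨g, hg⟩ := exact₁ hT' 0 ⊤ x (Subsingleton.elim _ _)
  let φ := cokernel.desc T.f T.g T.zero
  obtain ⟨i, hi⟩ := app_surjective_of_subsingleton hS ((Opens.map f).obj ⊤) h
    (φ.hom.app (op ⊤) (hc0 T'.X₃ ⊤ g))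
  have key : T'.g.hom.app (op ⊤) i = hc0 T'.X₃ ⊤ g := by
    apply injective_app_of_mono φ ⊤
    refine Eq.trans ?_ hi
    exact ConcreteCategory.congr_hom
      (congr_app (congrArg (fun ψ : T.X₂ ⟶ T.X₃ => ψ.hom) (cokernel.π_desc T.f T.g T.zero)) (op ⊤)) i
  have hgi : mp T'.g 0 ⊤ ((hc0 T'.X₂ ⊤).symm i) = g := by
    apply (hc0 T'.X₃ ⊤).injective
    rw [hc0_mp, AddEquiv.apply_symm_apply, key]
  rw [← hg, ← hgi, delta_mp]

/-- The structure sheaf of `Z` as the direct image of that of `Y`. -/
theorem nonempty_iso_push {Y Z : Scheme.{u}} (b : Y ⟶ Z) (hb : ∀ W : Z.Opens, Function.Bijective (b.app W)) :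
    Nonempty ((abF Z).obj (Coh.structureModule Z) ≅
      (CohTop.push (b.base : sp Y ⟶ sp Z)).obj ((abF Y).obj (Coh.structureModule Y))) :=
  ⟨(fullyFaithfulSheafToPresheaf (Opens.grothendieckTopology (sp Z)) AddCommGrpCat.{u}).preimageIso
    (NatIso.ofComponents (fun W => AddEquiv.toAddCommGrpIso
      (X := ((abF Z).obj (Coh.structureModule Z)).obj.obj W)
      (Y := ((CohTop.push (b.base : sp Y ⟶ sp Z)).obj ((abF Y).obj (Coh.structureModule Y))).obj.obj W)
      (AddEquiv.ofBijective (b.app W.unop).hom.toAddMonoidHom (hb W.unop))) fun {U V} i => by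
        ext s
        exact (ConcreteCategory.congr_hom (b.naturality i) s))⟩

/-- Pushing forward `O`: the first cohomology does not change when it vanishes on a basis of preimages. -/
theorem subsingleton_HH_one_of_push {Y Z : Scheme.{u}} (b : Y ⟶ Z) (hb : ∀ W : Z.Opens, Function.Bijective (b.app W))
    (B : Set Z.Opens) (hB : Opens.IsBasis B)
    (hW : ∀ W ∈ B, Subsingleton (Hc ((abF Y).obj (Coh.structureModule Y)) 1 (b ⁻¹ᵁ W)))
    (hZ : Subsingleton (Coh.HH Z (Coh.structureModule Z) 1)) :
    Subsingleton (Coh.HH Y (Coh.structureModule Y) 1) := by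
  rw [subsingleton_HH_iff] at hZ ⊢
  obtain ⟨e⟩ := nonempty_iso_push b hb
  obtain ⟨ε⟩ := nonempty_hc_push (b.base : sp Y ⟶ sp Z) hB 1 ((abF Y).obj (Coh.structureModule Y))
    (fun q hq V hV => by
      obtain rfl : q = 0 := by omega
      exact hW V hV) ⊤
  haveI := hZ
  haveI : Subsingleton (Hc ((CohTop.push (b.base : sp Y ⟶ sp Z)).obj ((abF Y).obj (Coh.structureModule Y))) 1 ⊤) :=
    (mpEquiv e 1 ⊤).symm.toEquiv.subsingleton
  exact ε.symm.toEquiv.subsingleton

/-- Vanishing of `H¹(O)` descends along morphisms with `b_* O = O`. -/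
theorem subsingleton_HH_one_of_dominated {Y Z : Scheme.{u}} (b : Y ⟶ Z) (hb : ∀ W : Z.Opens, Function.Bijective (b.app W))
    (hY : Subsingleton (Coh.HH Y (Coh.structureModule Y) 1)) :
    Subsingleton (Coh.HH Z (Coh.structureModule Z) 1) := by
  rw [subsingleton_HH_iff] at hY ⊢
  obtain ⟨e⟩ := nonempty_iso_push b hb
  haveI := subsingleton_hc_push_one (b.base : sp Y ⟶ sp Z) _ hY
  exact (mpEquiv e 1 ⊤).toEquiv.subsingleton

end Groth.Agent.RegRat
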